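import Cfsg.Agent.H420.Rg.Sz
import Cfsg.Agent.H813.SaxSpM
import Cfsg.Agent.H884.ElNum

/-!
# S3691: the Suzuki class of maximal subgroups of `Sp_4(q)`, `q` even (helper305)

`sz4` : the orders of the subgroups `X` of a maximal subgroup of `Sp_4(2 ^ f)` in the residual
class, `r ∣ |X|` for a primitive prime divisor `r` of `2 ^ (4 f) - 1`.
-/

set_option autoImplicit false
set_option linter.unusedSectionVars false

namespace Cfsg.Agent.H305.Rg

open Cfsg Subgroup Cfsg.Agent.H761.SzCls Cfsg.Agent.H56.Exc Cfsg.Agent.H884.El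

section sz
variable {F : Type*} [Field F] [Fintype F] {m : ℕ}

/-- the proper subgroups of `Sz(q)` of order divisible by a prime not dividing `q (q - 1)` -/
theorem sz_small (hm : 2 ≤ m) (hF : Fintype.card F = 2 ^ (2 * m + 1)) (L : Subgroup (Cfsg.Sz F m)) (hL : L ≠ ⊤)
    {r : ℕ} (hr : r.Prime) (h1 : ¬ r ∣ 2 ^ (2 * m + 1)) (h2 : ¬ r ∣ 2 ^ (2 * m + 1) - 1) (hrL : r ∣ Nat.card L) :
    Nat.card L ≤ 2 * (2 ^ (2 * m + 1)) ^ 2 := by
  have hm1 : 1 ≤ m := by omega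
  obtain ⟨-, h8, -, -, -⟩ := qt hm1
  have hqt : 2 ^ (2 * m + 1) = 2 * (2 ^ m * 2 ^ m) := by rw [← pow_add, ← pow_succ']; congr 1; omega
  have ht : 2 ^ (m + 1) = 2 * 2 ^ m := by rw [pow_succ']
  have hz : 1 ≤ 2 ^ m := Nat.one_le_two_pow
  rcases S2251.result hm1 hF L hL with ⟨Q, hQ⟩ | ⟨V, hV, hVc, hKV⟩ | ⟨K, _, _, k, hk, hkm, hK, hdiv, S, ⟨e⟩, hKS⟩
  · exfalso
    have h3 : r ∣ (2 ^ (2 * m + 1)) ^ 2 * (2 ^ (2 * m + 1) - 1) := by
      rw [← card_norm_sylow hm1 hF Q]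
      exact hrL.trans (Subgroup.card_dvd_of_le hQ)
    rcases (Nat.Prime.dvd_mul hr).1 h3 with h | h
    · exact h1 (hr.dvd_of_dvd_pow h)
    · exact h2 h
  · obtain ⟨j, hj⟩ := mem_set_iff.1 hVc
    have hV' : IsTor V j := ⟨hV, hj⟩
    have hfin := finite_Sz F m
    refine (Subgroup.card_le_of_le hKV).trans ?_
    rw [card_norm hm1 hF hV']
    refine (Nat.mul_le_mul_right _ (cT_le j).1).trans ?_
    have h4 : nT m j ≤ 2 ^ (2 * m + 1) + 2 ^ (m + 1) + 1 := by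
      fin_cases j
      · show 2 ^ (2 * m + 1) - 1 ≤ _
        omega
      · show 2 ^ (2 * m + 1) + 2 ^ (m + 1) + 1 ≤ _
        omega
      · show 2 ^ (2 * m + 1) - 2 ^ (m + 1) + 1 ≤ _
        omega
    have h5 : 2 ^ (2 * m + 1) + 2 ^ (m + 1) + 1 ≤ 3 * 2 ^ (2 * m + 1) := by
      rw [hqt, ht]
      generalize 2 ^ m = z at *
      nlinarith
    have h6 : 4 * nT m j ≤ 12 * 2 ^ (2 * m + 1) := by omega
    refine h6.trans ?_
    rw [pow_two]
    nlinarith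
  · have hfin := finite_Sz F m
    refine (Subgroup.card_le_of_le hKS).trans ?_
    rw [Nat.card_congr e.toEquiv, S0324.result hk hK]
    obtain ⟨l, hl⟩ := hdiv
    have hl3 : 3 ≤ l := by
      rcases Nat.lt_or_ge l 3 with h | h
      · interval_cases l <;> omega
      · exact h
    set q := 2 ^ (2 * m + 1) with hq
    set s := 2 ^ (2 * k + 1) with hs
    have hs1 : 1 ≤ s := Nat.one_le_two_pow
    have h7 : s ^ 2 * (s ^ 2 + 1) * (s - 1) ≤ 2 * s ^ 5 := by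
      calc s ^ 2 * (s ^ 2 + 1) * (s - 1) ≤ s ^ 2 * (2 * s ^ 2) * s := by
            refine Nat.mul_le_mul (Nat.mul_le_mul_left _ ?_) (Nat.sub_le _ _)
            have : 1 ≤ s ^ 2 := Nat.one_le_pow _ _ (by omega)
            omega
        _ = 2 * s ^ 5 := by ring
    refine h7.trans (Nat.mul_le_mul_left _ ?_)
    have hql : q = s ^ l := by rw [hq, hl, pow_mul]
    calc s ^ 5 ≤ s ^ (l * 2) := Nat.pow_le_pow_right hs1 (by omega)
      _ = q ^ 2 := by rw [hql, pow_mul]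

end sz

open Matrix Module Cfsg.Geo

/-- **Box Sz.** -/
theorem sz4 {F : Type} [Field F] [Fintype F] [CharP F 2] {f : ℕ} (hf : 11 ≤ f) (hF : Fintype.card F = 2 ^ f)
    {N : Subgroup (GL (Fin 2 ⊕ Fin 2) F)} (hN : IsMaximalIn (spGL 2 F) N) (hS : InSymplecticResidualClass N)
    {r : ℕ} (hr : PP 2 (2 * (2 * f)) r) {X : Subgroup (GL (Fin 2 ⊕ Fin 2) F)} (hX : X ≤ N)
    (hrX : r ∣ Nat.card X) :
    (∀ k, 2 ^ k ∣ Nat.card X → 2 ^ k ≤ (2 ^ f) ^ 2) ∧
      ((2 ^ f) ^ 2 ∣ Nat.card X ∨ Nat.card X ≤ f * (2 * (2 ^ f) ^ 2)) := by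
  have h4 : 4 ≤ Fintype.card F := by
    rw [hF]
    calc 4 = 2 ^ 2 := by norm_num
      _ ≤ 2 ^ f := Nat.pow_le_pow_right (by norm_num) (by omega)
  have hev : ¬ Odd (Fintype.card F) := by
    rw [hF, Nat.not_odd_iff_even]
    exact Nat.even_pow.2 ⟨even_two, by omega⟩
  obtain ⟨P, m, hP, hm, hFm, ⟨e⟩⟩ := Cfsg.Agent.S5791.result hev h4 N hN hS
  have hfm : f = 2 * m + 1 := Nat.pow_right_injective le_rfl (hF.symm.trans hFm)
  have hPN := hP.le
  have hPS : P ≤ spGL 2 F := hPN.trans hN.1.le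
  have hbot : (scalars (Fin 2 ⊕ Fin 2) F).subgroupOf P = ⊥ := by
    rw [Subgroup.eq_bot_iff_forall]
    intro x hx
    exact Subtype.ext (Cfsg.Agent.H813.SaxSp.scalar_eq_one hx (hPS x.2))
  -- `P ≃ Sz`
  have e1 : P ≃* Cfsg.Lie.Sz F (2 ^ (m + 1)) :=
    ((QuotientGroup.quotientMulEquivOfEq hbot).trans QuotientGroup.quotientBot).symm.trans e
  have hnorm : (P.subgroupOf N).Normal := by
    constructor
    intro x hx g
    exact hP.normal g g.2 x hx
  have e2 : P.subgroupOf N ≃* Cfsg.Lie.Sz F (2 ^ (m + 1)) := (Subgroup.subgroupOfEquivOfLe hPN).trans e1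
  have hfin : Finite (Cfsg.Lie.Sz F (2 ^ (m + 1))) := Finite.of_equiv _ e1.toEquiv
  obtain ⟨g, hg⟩ : ∃ g : N →* MulAut (P.subgroupOf N), g = MulAut.conjNormal := ⟨_, rfl⟩
  have hinj : Function.Injective g := by
    rw [injective_iff_map_eq_one]
    intro h hh
    apply Subtype.ext
    refine Cfsg.Agent.H813.SaxSp.scalar_eq_one (hP.centralizer_scalar h h.2 fun x hx => ?_) (hN.1.le h.2)
    have h1 : ((g h ⟨⟨x, hPN hx⟩, hx⟩ : P.subgroupOf N) : N) = ⟨x, hPN hx⟩ := by rw [hh]; rfl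
    rw [hg] at h1
    have h2 : (h : GL (Fin 2 ⊕ Fin 2) F) * x * (h : GL (Fin 2 ⊕ Fin 2) F)⁻¹ = x := congrArg Subtype.val h1
    rw [h2, mul_inv_cancel]
    exact Subgroup.one_mem _
  have hsimp : IsSimpleGroup (Cfsg.Lie.Sz F (2 ^ (m + 1))) := Cfsg.Agent.S1162.result hm hFm
  have hna : ¬ IsMulCommutative (Cfsg.Lie.Sz F (2 ^ (m + 1))) := by
    intro h
    apply hP.nonabelian
    refine ⟨⟨fun a b => ?_⟩⟩
    apply e.injective
    rw [map_mul, map_mul]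
    exact h.is_comm.comm _ _
  have hcA : Nat.card (MulAut (Cfsg.Lie.Sz F (2 ^ (m + 1)))) = (2 * m + 1) * Nat.card (Cfsg.Lie.Sz F (2 ^ (m + 1))) := by
    rw [← Cfsg.Agent.H489.card_out_mul (Cfsg.Agent.H489.center_eq_bot hna), Cfsg.Agent.S2126.result hm hFm]
  have hfinA : Finite (MulAut (Cfsg.Lie.Sz F (2 ^ (m + 1)))) := inferInstance
  have hcN : Nat.card N ∣ (2 * m + 1) * Nat.card (Cfsg.Lie.Sz F (2 ^ (m + 1))) := by
    rw [← hcA, ← Nat.card_congr (MulAut.congr e2).toEquiv]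
    exact Subgroup.card_dvd_of_injective g hinj
  have hcSz := (Cfsg.Agent.S1163.result hm hFm).1
  have hcP : Nat.card (P.subgroupOf N) = Nat.card (Cfsg.Lie.Sz F (2 ^ (m + 1))) := Nat.card_congr e2.toEquiv
  have hSz0 : 0 < Nat.card (Cfsg.Lie.Sz F (2 ^ (m + 1))) := Nat.card_pos
  rw [← hfm] at hcN hcSz
  -- the index
  have hfinN : Finite N := inferInstance
  have hidx : (P.subgroupOf N).index ∣ f := by
    have h1 : (P.subgroupOf N).index * Nat.card (Cfsg.Lie.Sz F (2 ^ (m + 1))) ∣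
        f * Nat.card (Cfsg.Lie.Sz F (2 ^ (m + 1))) := by
      rw [← hcP, Subgroup.index_mul_card, hcP]
      exact hcN
    exact Nat.dvd_of_mul_dvd_mul_right hSz0 h1
  -- the prime
  have hq1 : 1 < 2 ^ f := Nat.one_lt_pow (by omega) (by norm_num)
  have hrp := hr.prime
  have hrf : ¬ r ∣ f := by
    intro h
    have h1 := Nat.le_of_dvd (by omega) h
    have h2 := hr.lt (by omega)
    omega
  have hrq : ¬ r ∣ 2 ^ f := fun h => hr.not_dvd (by omega) (hrp.dvd_of_dvd_pow h)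
  have hrq1 : ¬ r ∣ 2 ^ f - 1 := by
    intro h
    have h1 := (hr.dvd_iff (by norm_num) f).1 h
    have := Nat.le_of_dvd (by omega) h1
    omega
  have hXN : Nat.card (X.subgroupOf N) = Nat.card X := Nat.card_congr (Subgroup.subgroupOfEquivOfLe hX).toEquiv
  refine ⟨?_, ?_⟩
  · intro k hk
    have h1 : 2 ^ k ∣ f * ((2 ^ f) ^ 2 * (2 ^ f - 1) * ((2 ^ f) ^ 2 + 1)) := by
      rw [← hcSz]
      exact (hk.trans (Subgroup.card_dvd_of_le hX)).trans hcN
    have h2q : 2 ∣ 2 ^ f := dvd_pow_self 2 (by omega)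
    have c1 : Nat.Coprime (2 ^ k) f := by
      apply Nat.Coprime.pow_left
      rw [Nat.coprime_two_left, hfm]
      exact ⟨m, rfl⟩
    have c2 : Nat.Coprime (2 ^ k) (2 ^ f - 1) := by
      apply Nat.Coprime.pow_left
      rw [Nat.coprime_two_left]
      obtain ⟨c, hc⟩ := h2q
      exact ⟨c - 1, by omega⟩
    have c3 : Nat.Coprime (2 ^ k) ((2 ^ f) ^ 2 + 1) := by
      apply Nat.Coprime.pow_left
      rw [Nat.coprime_two_left]
      obtain ⟨c, hc⟩ := h2q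
      exact ⟨2 * c ^ 2, by rw [hc]; ring⟩
    have h2 := c3.dvd_of_dvd_mul_right (c1.dvd_of_dvd_mul_left h1)
    exact Nat.le_of_dvd (by positivity) (c2.dvd_of_dvd_mul_right h2)
  · obtain ⟨Q, hQ⟩ : ∃ Q : Subgroup N, Q = P.subgroupOf N := ⟨_, rfl⟩
    obtain ⟨Y, hY⟩ : ∃ Y : Subgroup N, Y = X.subgroupOf N := ⟨_, rfl⟩
    rw [← hQ] at e2 hidx hcP hnorm
    rw [← hY] at hXN
    have hj : Q.relIndex Y ∣ f := (Subgroup.relIndex_dvd_index_of_normal Q Y).trans hidx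
    have hcY : Q.relIndex Y * Nat.card (Q.subgroupOf Y) = Nat.card Y := Subgroup.index_mul_card _
    have ha1 : Nat.card (Q.subgroupOf Y) = Nat.card (Y.subgroupOf Q) := by
      rw [← Subgroup.inf_subgroupOf_right Q Y, ← Subgroup.inf_subgroupOf_right Y Q,
        Nat.card_congr (Subgroup.subgroupOfEquivOfLe (inf_le_right : Q ⊓ Y ≤ Y)).toEquiv,
        Nat.card_congr (Subgroup.subgroupOfEquivOfLe (inf_le_right : Y ⊓ Q ≤ Q)).toEquiv, inf_comm]
    rw [ha1] at hcY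
    have hra : r ∣ Nat.card (Y.subgroupOf Q) := by
      rw [← hXN, ← hcY] at hrX
      rcases (Nat.Prime.dvd_mul hrp).1 hrX with h | h
      · exact absurd (h.trans hj) hrf
      · exact h
    obtain ⟨e3⟩ := Cfsg.Agent.OddCyclic.ClaimC.SzIso.iso hm hFm
    have e4 : Q ≃* Cfsg.Sz F m := e2.trans e3.symm
    obtain ⟨L, hL⟩ : ∃ L : Subgroup (Cfsg.Sz F m), L = (Y.subgroupOf Q).map e4.toMonoidHom := ⟨_, rfl⟩
    have hcL : Nat.card L = Nat.card (Y.subgroupOf Q) := by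
      rw [hL]
      exact Subgroup.card_map_of_injective e4.injective
    by_cases hLt : L = ⊤
    · left
      have h1 : Nat.card (Y.subgroupOf Q) = Nat.card (Cfsg.Lie.Sz F (2 ^ (m + 1))) := by
        rw [← hcL, hLt, Subgroup.card_top, ← Nat.card_congr e4.toEquiv, hcP]
      rw [← hXN, ← hcY, h1, hcSz]
      exact Dvd.dvd.mul_left (Dvd.dvd.mul_right (Dvd.intro _ rfl) _) _
    · right
      rw [hfm] at hrq hrq1
      have h1 := sz_small (by omega) hFm L hLt hrp hrq hrq1 (hcL ▸ hra)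
      rw [hcL, ← hfm] at h1
      rw [← hXN, ← hcY]
      exact Nat.mul_le_mul (Nat.le_of_dvd (by omega) hj) h1

end Cfsg.Agent.H305.Rg
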